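import Groth.Prelude.Def_FlatMod2
import Groth.Prelude.Def_CohB1
import Groth.Agent.Lib.KoszShH13.Copies
import Groth.Agent.Lib.EGA2.ProjBaseChange
import Groth.Agent.Lib.Twist.GlobalProjSpace
import Groth.Agent.Lib.ProjSpace.Basic
import Groth.Agent.Lib.TensorMod.LiftLocal
import Mathlib

/-!
# Finite morphisms to projective space with free direct image are constant
-/

set_option autoImplicit false
set_option backward.isDefEq.respectTransparency false
set_option backward.isDefEq.respectTransparency.types false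
set_option linter.style.haveILetI false

universe u

open CategoryTheory CategoryTheory.Limits AlgebraicGeometry TensorProduct

noncomputable section

namespace Groth.Agent.FreePush13

theorem eq_toSpecΓ {F : Scheme.{u}} {R : CommRingCat.{u}} (h : F ⟶ Spec R) :
    h = F.toSpecΓ ≫ Spec.map ((Scheme.ΓSpecIso R).inv ≫ h.appTop) := by
  rw [Spec.map_comp, ← Category.assoc, ← Scheme.toSpecΓ_naturality, Category.assoc]
  simp

theorem fromSpec_hom {F : Scheme.{u}} {R : CommRingCat.{u}} (h : F ⟶ Spec R) {U : F.Opens} (hU : IsAffineOpen U) :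
    hU.fromSpec ≫ h = Spec.map ((Scheme.ΓSpecIso R).inv ≫ h.appTop ≫ F.presheaf.map (homOfLE le_top).op) := by
  conv_lhs => rw [eq_toSpecΓ h, ← Category.assoc, IsAffineOpen.fromSpec_toSpecΓ, ← Spec.map_comp]
  rw [Category.assoc]

variable {P F S : Scheme.{u}} {k : CommRingCat.{u}} (p : P ⟶ Spec k) (f : F ⟶ P) [IsAffineHom f]

/-- Global functions give a cartesian square when the direct image is free on global sections and the
base has only constant functions. -/
theorem isPullback_toSpecΓ (hp : Function.Bijective ((Scheme.ΓSpecIso k).inv ≫ p.appTop)) {d : ℕ}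
    (C : ∀ U : P.Opens, Γ(F, f ⁻¹ᵁ U) → Fin d → Γ(P, U)) (hC : ∀ U, Function.Bijective (C U))
    (hadd : ∀ U a b j, C U (a + b) j = C U a j + C U b j)
    (hsmul : ∀ U r a j, C U (f.app U r * a) j = r * C U a j)
    (hres : ∀ (U : P.Opens) a j, C U (F.presheaf.map (homOfLE (f.preimage_mono (le_top : U ≤ ⊤))).op a) j =
      P.presheaf.map (homOfLE (le_top : U ≤ ⊤)).op (C ⊤ a j)) :
    IsPullback f F.toSpecΓ p (Spec.map ((Scheme.ΓSpecIso k).inv ≫ (f ≫ p).appTop)) := by
  refine EGA2.isPullback_of_charts f F.toSpecΓ p _ (eq_toSpecΓ (f ≫ p))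
    (fun U : P.affineOpens => U.1.toScheme) (fun U => U.1.ι)
    (fun y => by
      obtain ⟨U, hU, hy, -⟩ := exists_isAffineOpen_mem_and_subset (X := P) (x := y) (U := ⊤) trivial
      exact ⟨⟨U, hU⟩, by simpa using hy⟩)
    (fun U => (f ⁻¹ᵁ U.1).toScheme) (fun U => f ∣_ U.1) (fun U => (f ⁻¹ᵁ U.1).ι)
    (fun U => (isPullback_morphismRestrict f U.1).flip.flip) fun U => ?_
  obtain ⟨U, hU⟩ := U
  have hW : IsAffineOpen (f ⁻¹ᵁ U) := hU.preimage f
  let α : k →+* Γ(P, U) := ((Scheme.ΓSpecIso k).inv ≫ p.appTop ≫ P.presheaf.map (homOfLE le_top).op).hom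
  let β : k →+* Γ(F, ⊤) := ((Scheme.ΓSpecIso k).inv ≫ (f ≫ p).appTop).hom
  letI := α.toAlgebra
  letI := β.toAlgebra
  letI := (f.app U).hom.toAlgebra
  letI : Algebra Γ(F, ⊤) Γ(F, f ⁻¹ᵁ U) := (F.presheaf.map (homOfLE (le_top : f ⁻¹ᵁ U ≤ ⊤)).op).hom.toAlgebra
  letI : Algebra k Γ(F, f ⁻¹ᵁ U) := ((f.app U).hom.comp α).toAlgebra
  haveI : IsScalarTower k Γ(P, U) Γ(F, f ⁻¹ᵁ U) := IsScalarTower.of_algebraMap_eq' rfl
  have hcomm : ∀ r, f.app U (α r) = F.presheaf.map (homOfLE (le_top : f ⁻¹ᵁ U ≤ ⊤)).op (β r) := fun r => by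
    change (((Scheme.ΓSpecIso k).inv ≫ p.appTop ≫ P.presheaf.map (homOfLE le_top).op) ≫ f.app U) r =
      (((Scheme.ΓSpecIso k).inv ≫ (f ≫ p).appTop) ≫ F.presheaf.map (homOfLE le_top).op) r
    simp only [Scheme.Hom.comp_appTop, Category.assoc]
    rw [Scheme.Hom.naturality]
    rfl
  haveI : IsScalarTower k Γ(F, ⊤) Γ(F, f ⁻¹ᵁ U) := IsScalarTower.of_algebraMap_eq hcomm
  have hpush : Algebra.IsPushout k Γ(P, U) Γ(F, ⊤) Γ(F, f ⁻¹ᵁ U) := by
    refine ⟨?_⟩
    let ι : Γ(F, ⊤) →ₗ[k] Γ(F, f ⁻¹ᵁ U) := (IsScalarTower.toAlgHom k Γ(F, ⊤) Γ(F, f ⁻¹ᵁ U)).toLinearMap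
    let L : Γ(P, U) ⊗[k] Γ(F, ⊤) →ₗ[Γ(P, U)] Γ(F, f ⁻¹ᵁ U) := ι.liftBaseChange Γ(P, U)
    let σ : k ≃+* Γ(P, ⊤) := RingEquiv.ofBijective ((Scheme.ΓSpecIso k).inv ≫ p.appTop).hom hp
    have hβ : ∀ r, f.app ⊤ (σ r) = β r := fun r => rfl
    let co : Γ(F, ⊤) → Fin d → k := fun a j => σ.symm (C ⊤ a j)
    have hco : Function.Bijective co := by
      refine ⟨fun a b h => (hC ⊤).1 (funext fun j => σ.symm.injective (congrFun h j)), fun v => ?_⟩
      obtain ⟨a, ha⟩ := (hC ⊤).2 fun j => σ (v j)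
      exact ⟨a, funext fun j => by simp [co, ha]⟩
    let coL : Γ(F, ⊤) →ₗ[k] Fin d → k :=
      { toFun := co
        map_add' := fun a b => funext fun j =>
          (congrArg σ.symm (hadd ⊤ a b j)).trans (map_add σ.symm _ _)
        map_smul' := fun r a => funext fun j => by
          show σ.symm (C ⊤ (β r * a) j) = r * σ.symm (C ⊤ a j)
          rw [← hβ, hsmul ⊤ (σ r) a j, map_mul, RingEquiv.symm_apply_apply] }
    let Φ := TensorProduct.piScalarRight k Γ(P, U) Γ(P, U) (Fin d) ∘ LinearMap.lTensor Γ(P, U) coL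
    have hΦ : Function.Bijective Φ :=
      (TensorProduct.piScalarRight k Γ(P, U) Γ(P, U) (Fin d)).bijective.comp
        (LinearEquiv.lTensor Γ(P, U) (LinearEquiv.ofBijective coL hco)).bijective
    have key : ∀ z, C U (L z) = Φ z := by
      intro z
      funext j
      induction z using TensorProduct.induction_on with
      | zero =>
        have : C U 0 j = C U 0 j + C U 0 j := by rw [← hadd, add_zero]
        simpa [Φ] using this
      | add x y hx hy => simp only [Φ, Function.comp_apply, map_add, hadd, Pi.add_apply] at hx hy ⊢; rw [hx, hy]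
      | tmul r a =>
        simp only [Φ, L, Function.comp_apply, LinearMap.liftBaseChange_tmul, LinearMap.lTensor_tmul,
          piScalarRight_apply, piScalarRightHom_tmul]
        show C U (f.app U r * F.presheaf.map (homOfLE (le_top : f ⁻¹ᵁ U ≤ ⊤)).op a) j = co a j • r
        rw [hsmul]
        erw [hres U a j]
        rw [Algebra.smul_def, mul_comm r]
        congr 1
        show P.presheaf.map (homOfLE le_top).op (C ⊤ a j) =
          P.presheaf.map (homOfLE le_top).op (σ (σ.symm (C ⊤ a j)))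
        rw [RingEquiv.apply_symm_apply]
    have hL : Function.Bijective L := by
      refine (Function.Bijective.of_comp_iff' (hC U) L).1 ?_
      convert hΦ using 1
      exact funext key
    exact IsBaseChange.of_equiv (LinearEquiv.ofBijective L hL) fun a =>
      LinearMap.liftBaseChange_one_tmul _ _ _
  haveI := hpush
  have h := isPullback_SpecMap_of_isPushout (CommRingCat.ofHom (algebraMap k Γ(P, U)))
    (CommRingCat.ofHom (algebraMap k Γ(F, ⊤))) (CommRingCat.ofHom (algebraMap Γ(P, U) Γ(F, f ⁻¹ᵁ U)))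
    (CommRingCat.ofHom (algebraMap Γ(F, ⊤) Γ(F, f ⁻¹ᵁ U))) (CommRingCat.isPushout_iff_isPushout.mpr hpush)
  refine IsPullback.of_iso h hW.isoSpec.symm hU.isoSpec.symm (Iso.refl _) (Iso.refl _) ?_ ?_ ?_ ?_
  · rw [← cancel_mono U.ι, Category.assoc, Category.assoc, Iso.symm_hom, Iso.symm_hom, IsAffineOpen.isoSpec_inv_ι,
      morphismRestrict_ι, IsAffineOpen.isoSpec_inv_ι_assoc, ← hU.SpecMap_appLE_fromSpec f hW le_rfl,
      ← Scheme.Hom.app_eq_appLE]
    rfl
  · rw [Iso.refl_hom, Category.comp_id, Iso.symm_hom, IsAffineOpen.isoSpec_inv_ι_assoc, IsAffineOpen.fromSpec_toSpecΓ]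
    rfl
  · rw [Iso.refl_hom, Category.comp_id, Iso.symm_hom, IsAffineOpen.isoSpec_inv_ι_assoc, fromSpec_hom]
    rfl
  · rw [Iso.refl_hom, Iso.refl_hom, Category.comp_id, Category.id_comp]
    rfl

/-- A finite morphism to projective space with free direct image comes from the base field. -/
theorem nonempty_iso (k : Type u) [Field k] (n d : ℕ)
    (s : Spec (CommRingCat.of k) ⟶ CohB1.ProjSpace n k) (hs : s ≫ CohB1.ProjSpace.toSpec n k = 𝟙 _)
    (F : Scheme.{u}) (f : F ⟶ CohB1.ProjSpace n k) [IsAffineHom f]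
    (e : (Scheme.Modules.pushforward f).obj (SheafOfModules.unit F.ringCatSheaf) ≅
      ∐ fun _ : ULift.{u} (Fin d) => (SheafOfModules.unit (CohB1.ProjSpace n k).ringCatSheaf :
        (CohB1.ProjSpace n k).Modules)) :
    Nonempty (Over.mk f ≅ Over.mk (pullback.snd (pullback.snd f s) (CohB1.ProjSpace.toSpec n k))) := by
  let P := CohB1.ProjSpace n k
  let p := CohB1.ProjSpace.toSpec n k
  let N := (Scheme.Modules.pushforward f).obj (Coh.structureModule F)
  let θ : N ≅ FlatMod.freeMod P d :=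
    e ≪≫ (Sigma.whiskerEquiv (f := fun _ : Fin d => Coh.structureModule P)
      (g := fun _ : ULift.{u} (Fin d) => Coh.structureModule P) Equiv.ulift.symm (fun _ => Iso.refl _)).symm
  let C : ∀ U : P.Opens, Γ(F, f ⁻¹ᵁ U) → Fin d → Γ(P, U) := fun U a j =>
    KoszShH13.fr U j (θ.hom.app U (show Γ(N, U) from a))
  have hθ : ∀ U, Function.Bijective fun a : Γ(N, U) => θ.hom.app U a := fun U =>
    Function.bijective_iff_has_inverse.2 ⟨fun b => θ.inv.app U b,
      fun a => congr($(θ.hom_inv_id).app U a), fun b => congr($(θ.inv_hom_id).app U b)⟩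
  have h := isPullback_toSpecΓ p f (Twist.bijective_toSpec_appTop n k) C
    (fun U => by
      refine ⟨fun a b hab => (hθ U).1 (KoszShH13.fr_ext fun j => congrFun hab j), fun c => ?_⟩
      obtain ⟨v, hv⟩ := KoszShH13.exists_fr U c
      obtain ⟨a, ha⟩ := (hθ U).2 v
      refine ⟨a, funext fun j => ?_⟩
      show KoszShH13.fr U j (θ.hom.app U (show Γ(N, U) from a)) = c j
      rw [show θ.hom.app U (show Γ(N, U) from a) = v from ha]
      exact hv j)
    (fun U a b j => by
      show KoszShH13.fr U j (θ.hom.app U ((show Γ(N, U) from a) + (show Γ(N, U) from b))) = _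
      rw [map_add, map_add])
    (fun U r a j => by
      show KoszShH13.fr U j (θ.hom.app U (r • (show Γ(N, U) from a))) = _
      rw [Scheme.Modules.Hom.app_smul, map_smul]
      rfl)
    (fun U a j => by
      show KoszShH13.fr U j (θ.hom.app U (M1.mres N (le_top : U ≤ ⊤) (show Γ(N, ⊤) from a))) =
        M1.ores (le_top : U ≤ ⊤) (KoszShH13.fr ⊤ j (θ.hom.app ⊤ (show Γ(N, ⊤) from a)))
      rw [← KoszShH13.fr_res (le_top : U ≤ ⊤)]
      congr 1
      exact (M1.map_app_eq θ.hom (le_top : U ≤ ⊤) (show Γ(N, ⊤) from a)))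
  -- the fibre at the section is the spectrum of the global functions
  let q := Spec.map ((Scheme.ΓSpecIso (CommRingCat.of k)).inv ≫ (f ≫ p).appTop)
  have hfs' : IsPullback (pullback.fst f s ≫ F.toSpecΓ) (pullback.snd f s) q (𝟙 _) := by
    have := (IsPullback.of_hasPullback f s).paste_horiz h.flip
    rwa [hs] at this
  haveI : IsIso (pullback.fst f s ≫ F.toSpecΓ) := hfs'.isIso_fst_of_isIso
  have hF : IsPullback (F.toSpecΓ ≫ inv (pullback.fst f s ≫ F.toSpecΓ)) f (pullback.snd f s) p := by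
    refine IsPullback.of_iso h.flip (Iso.refl _) (asIso (pullback.fst f s ≫ F.toSpecΓ)).symm (Iso.refl _) (Iso.refl _)
      ?_ ?_ ?_ ?_
    · simp
    · simp
    · rw [Iso.refl_hom, Category.comp_id, Iso.symm_hom, asIso_inv, IsIso.eq_inv_comp]
      rw [hfs'.w, Category.comp_id]
    · simp [p]
  exact ⟨Over.isoMk hF.isoPullback hF.isoPullback_hom_snd⟩

end Groth.Agent.FreePush13
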